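import Mathlib

/-!
# S5289 piece (ALL2) `no_pearl_above` (architect helper77; sub-architect helper81): definitions of the abstract configuration

`G` a finite `p`-group of rank `≤ 2`, `N ⊴ G` nonabelian of order `p³` and exponent `p` with `C_G(N) ≤ N`, `N ≠ G`.
`zN N = Z(N)` as a subgroup of `G`.
-/

set_option autoImplicit false

universe u

namespace Cfsg.Agent.Helper81.ResA2

variable {G : Type u} [Group G]

/-- `Z(N)` as a subgroup of `G` -/
def zN (N : Subgroup G) : Subgroup G := N ⊓ Subgroup.centralizer (N : Set G)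

theorem mem_zN {N : Subgroup G} {z : G} : z ∈ zN N ↔ z ∈ N ∧ ∀ g ∈ N, g * z = z * g := by
  unfold zN
  rw [Subgroup.mem_inf, Subgroup.mem_centralizer_iff]
  rfl

theorem zN_le (N : Subgroup G) : zN N ≤ N := inf_le_left

/-- the abstract configuration -/
structure Cf (p : ℕ) (N : Subgroup G) : Prop where
  fin : Finite G
  pgrp : IsPGroup p G
  nrm : N.Normal
  card : Nat.card N = p ^ 3
  exp : ∀ x ∈ N, x ^ p = 1
  na : ∃ a ∈ N, ∃ b ∈ N, a * b ≠ b * a
  ne : ∃ t : G, t ∉ N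
  cent : ∀ t : G, (∀ x ∈ N, t * x = x * t) → t ∈ N
  rank : ∀ E : Subgroup G, (∀ a ∈ E, ∀ b ∈ E, a * b = b * a) → (∀ e ∈ E, e ^ p = 1) → Nat.card E ≤ p ^ 2

end Cfsg.Agent.Helper81.ResA2
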