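import Mathlib
import Cfsg.Agent.Helper81.ResA2.Defs
import Cfsg.Agent.Helper90.ResA2_ZC
import Cfsg.Agent.Helper90.ResA2_ZK
import Cfsg.Agent.Helper90.ResA2_ZG
import Cfsg.Agent.Helper90.ResA2_G4
import Cfsg.Agent.Helper85.ResA2_CEN
import Cfsg.Agent.Helper85.ResA2_CY
import Cfsg.Agent.Helper66.ResA2_AB
import Cfsg.Agent.Helper66.ResA2_NQ
import Cfsg.Agent.Helper49.ResA2_QS
import Cfsg.Agent.Helper49.ResA2_QC
import Cfsg.Agent.Helper37.ResA2_AC
import Cfsg.Agent.Helper37.ResA2_AX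
import Cfsg.Agent.Helper52.ResA2_CM
import Cfsg.Agent.Helper52.ResA2_AP
import Cfsg.Agent.Helper81.ResA2_AI
import Cfsg.Agent.Helper81.ResA2_AR
import Cfsg.Agent.Helper81.ResA2_BIL
import Cfsg.Agent.Helper81.ResA2_BIL2
import Cfsg.Agent.Helper57.ResA2_INT
import Cfsg.Agent.Helper57.ResA2_EX

/-!
# S5289 piece (ALL2) `no_pearl_above`: the abstract theorem (assembly of the ResA2 sub-farm, sub-architect helper81)

`G` finite `p`-group of rank `≤ 2`, `N ⊴ G` extraspecial of order `p³` and exponent `p`, self-centralizing, `N ≠ G`; `Q ≤ N` of order `p²` not normal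
in `G`; `χ ∈ Aut(G)` with `χ(N) ≤ N`, `χ(Q) ≤ Q`, acting on `Q/Z(N)` as the `a`-th power.  Then `a² ≡ 1 mod p`.
Weights of `χ` on the chief factors: `E ⊴ G` the unique normal subgroup of order `p²` in `N`, `A = C_G(E)` abelian of order `p³`, `s ∈ A ∖ E`, `x ∈ Q ∖ Z`:
`y = [x,s] ∈ E ∖ Z`, `z = [x,y]` generates `Z`, `s^p ∈ Z ∖ 1`; `χ s ∈ s^c E` gives `χ y ∈ y^(ac) Z`, `χ z = z^(a·ac)`, `χ (s^p) = (s^p)^c`: `a²c ≡ c`.
-/

set_option autoImplicit false
set_option linter.unusedSectionVars false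
set_option linter.style.haveILetI false
universe u
namespace Cfsg.Agent.Helper81.ResA2
variable {G : Type u} [Group G] {p : ℕ} [hp : Fact p.Prime] {N : Subgroup G}

/-- (MAIN) the abstract theorem -/
theorem abs_main (hc : Cf p N) (Q : Subgroup G) (hQN : Q ≤ N) (hQ : Nat.card Q = p ^ 2)
    (hQn : ¬ ∀ t : G, ∀ q ∈ Q, t * q * t⁻¹ ∈ Q) (χ : MulAut G) (hχN : ∀ x ∈ N, χ x ∈ N) (a : ℕ)
    (hχQ : ∀ x ∈ Q, χ x ∈ Q ∧ ∀ t ∈ N, ((x ^ a)⁻¹ * χ x) * t = t * ((x ^ a)⁻¹ * χ x)) : a ^ 2 % p = 1 := by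
  classical
  haveI := hc.fin
  haveI := hc.nrm
  have hpp : p.Prime := hp.out
  have hp0 : 0 < p := hpp.pos
  have hZ := Cfsg.Agent.Helper90.ResA2.card_zN hc
  have hZK := Cfsg.Agent.Helper90.ResA2.comm_mem_zN hc hZ
  have hcenG : ∀ H : Subgroup G, H.Normal → Nat.card H = p → H ≤ Subgroup.center G := by
    intro H hH hHc
    haveI := hH
    exact Cfsg.Agent.Helper85.ResA2.le_center_of_normal_of_card_prime hc.pgrp H hHc
  have hZc := Cfsg.Agent.Helper90.ResA2.zN_central hc hZ hcenG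
  have hcenU : ∀ (K : Type u) [Group K] [Finite K], IsPGroup p K → ∀ H : Subgroup K, H.Normal →
      Nat.card H = p → H ≤ Subgroup.center K := by
    intro K _ _ hK H hH hHc
    haveI := hH
    exact Cfsg.Agent.Helper85.ResA2.le_center_of_normal_of_card_prime hK H hHc
  obtain ⟨E, hEN, hE, hEn⟩ := Cfsg.Agent.Helper57.ResA2.exists_normal_sq hc hZ hZc
  obtain ⟨hZE, hEab⟩ := Cfsg.Agent.Helper49.ResA2.sq_struct hc hZ E hEN hE
  obtain ⟨hZQ, hQab⟩ := Cfsg.Agent.Helper49.ResA2.sq_struct hc hZ Q hQN hQ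
  obtain ⟨hcomm, hcommE⟩ := Cfsg.Agent.Helper52.ResA2.comm_mem_sq hc hZ hZc hcenU E hEN hE hEn hZE
  have hqcE := Cfsg.Agent.Helper49.ResA2.sq_cent hc E hEN hE hEab
  have hqcQ := Cfsg.Agent.Helper49.ResA2.sq_cent hc Q hQN hQ hQab
  have hAI := Cfsg.Agent.Helper81.ResA2.centralizer_inf hc hZ E hEN hE hEab hqcE
  have hAX := Cfsg.Agent.Helper37.ResA2.index_centralizer hc E hEN hE hEn hAI
  have hAC := Cfsg.Agent.Helper37.ResA2.card_centralizer_le hc hZ E hEN hE hEn hcomm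
  have hG4 := Cfsg.Agent.Helper90.ResA2.card_top hc _ hAX hAC
  have hA3 : Nat.card (Subgroup.centralizer (E : Set G)) = p ^ 3 := by
    have h := (Subgroup.centralizer (E : Set G)).card_mul_index
    rw [hAX, hG4] at h
    exact Nat.eq_of_mul_eq_mul_right hp0 (by rw [h]; ring)
  -- uniqueness of `E`
  have hUQ : ∀ E' : Subgroup G, E' ≤ N → Nat.card E' = p ^ 2 → E'.Normal → E' = E := by
    intro E' hE'N hE' hE'n
    by_contra hne
    obtain ⟨hZE', -⟩ := Cfsg.Agent.Helper49.ResA2.sq_struct hc hZ E' hE'N hE'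
    obtain ⟨hcomm', -⟩ := Cfsg.Agent.Helper52.ResA2.comm_mem_sq hc hZ hZc hcenU E' hE'N hE' hE'n hZE'
    have hint := Cfsg.Agent.Helper57.ResA2.sq_inf hc hZ E' E hE' hE hZE' hZE hne
    apply hQn
    intro t q hq
    have h1 : q * t * q⁻¹ * t⁻¹ ∈ E' ⊓ E := ⟨hcomm' q (hQN hq) t, hcomm q (hQN hq) t⟩
    rw [hint] at h1
    have h2 : t * q * t⁻¹ = (q * t * q⁻¹ * t⁻¹)⁻¹ * q := by group
    rw [h2]
    exact Q.mul_mem (Q.inv_mem (hZQ h1)) hq
  have hQE : Q ≠ E := by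
    intro h
    apply hQn
    intro t q hq
    rw [h] at hq ⊢
    exact hEn.conj_mem q hq t
  -- elements
  have hEA : E ≤ Subgroup.centralizer (E : Set G) := by
    intro e he
    rw [Subgroup.mem_centralizer_iff]
    intro e' he'
    exact hEab e' he' e he
  obtain ⟨x, hxQ, hxZ⟩ : ∃ x ∈ Q, x ∉ zN N := by
    by_contra hcon
    push Not at hcon
    have hle : Q ≤ zN N := fun q hq => hcon q hq
    have := Subgroup.card_le_of_le hle
    rw [hQ, hZ] at this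
    have : p * p ≤ p * 1 := by nlinarith
    have := Nat.le_of_mul_le_mul_left this hp0
    exact absurd hpp.one_lt (by omega)
  obtain ⟨s, hsA, hsE⟩ : ∃ s ∈ Subgroup.centralizer (E : Set G), s ∉ E := by
    by_contra hcon
    push Not at hcon
    have hle : Subgroup.centralizer (E : Set G) ≤ E := fun q hq => hcon q hq
    have := Subgroup.card_le_of_le hle
    rw [hA3, hE] at this
    have h2 : p ^ 2 * p ≤ p ^ 2 * 1 := by nlinarith
    have := Nat.le_of_mul_le_mul_left h2 (by positivity)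
    exact absurd hpp.one_lt (by omega)
  have hxN : x ∈ N := hQN hxQ
  have hsN : s ∉ N := by
    intro h
    apply hsE
    rw [← hAI]
    exact ⟨hsA, h⟩
  have hgenA : ∀ t ∈ Subgroup.centralizer (E : Set G), ∃ i : ℕ, ∃ e ∈ E, t = s ^ i * e :=
    Cfsg.Agent.Helper85.ResA2.exists_pow_mul (p := p) _ E hEA (fun h _ k hk => hEn.conj_mem k hk h) (by rw [hA3, hE]; ring) s hsA hsE
  have hgenQ : ∀ q ∈ Q, ∃ i : ℕ, ∃ z ∈ zN N, q = x ^ i * z :=
    Cfsg.Agent.Helper85.ResA2.exists_pow_mul (p := p) Q (zN N) hZQ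
      (fun h _ k hk => by rw [hZc k hk h, mul_inv_cancel_right]; exact hk)
      (by rw [hQ, hZ]; ring) x hxQ hxZ
  have hgenG : ∀ t : G, ∃ i : ℕ, ∃ n ∈ N, t = s ^ i * n := by
    intro t
    exact Cfsg.Agent.Helper85.ResA2.exists_pow_mul (p := p) ⊤ N le_top (fun h _ k hk => hc.nrm.conj_mem k hk h)
      (by rw [Subgroup.card_top, hG4, hc.card]; ring) s (Subgroup.mem_top s) hsN t (Subgroup.mem_top t)
  have hAab := Cfsg.Agent.Helper66.ResA2.centralizer_comm E hEab s hsA hgenA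
  have hAP := Cfsg.Agent.Helper52.ResA2.pow_mem_zN hc E hEN hE hEn hEab hA3 hAab hcomm
  have hAR := Cfsg.Agent.Helper81.ResA2.mem_sq_of_pow hc E hEN hE
  -- `y = [x, s]`, `z = [x, y]`
  have hyE : x * s * x⁻¹ * s⁻¹ ∈ E := hcomm x hxN s
  have hyZ : x * s * x⁻¹ * s⁻¹ ∉ zN N := by
    intro h
    exact hQn (Cfsg.Agent.Helper66.ResA2.normal_of_comm Q hQN hZQ hZc hZK x s hxQ hgenQ hgenG h)
  have hyQ : x * s * x⁻¹ * s⁻¹ ∉ Q := by
    intro h
    have h2 : x * s * x⁻¹ * s⁻¹ ∈ Q ⊓ E := ⟨h, hyE⟩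
    rw [Cfsg.Agent.Helper57.ResA2.sq_inf hc hZ Q E hQ hE hZQ hZE hQE] at h2
    exact hyZ h2
  set y := x * s * x⁻¹ * s⁻¹ with hy
  have hyN : y ∈ N := hEN hyE
  have hzZ : x * y * x⁻¹ * y⁻¹ ∈ zN N := hZK x hxN y hyN
  have hz1 : x * y * x⁻¹ * y⁻¹ ≠ 1 := by
    intro h
    apply hyQ
    apply hqcQ x hxQ hxZ y hyN
    have h3 : x * y = y * x := by
      have := congrArg (fun w => w * y * x) h
      simpa [mul_assoc] using this
    exact h3.symm
  set z := x * y * x⁻¹ * y⁻¹ with hz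
  -- `χ` preserves `E` and `A`
  have hmapE : E.map χ.toMonoidHom = E := by
    apply hUQ
    · rintro _ ⟨e, he, rfl⟩
      exact hχN e (hEN he)
    · rw [Subgroup.card_map_of_injective (MulEquiv.injective χ), hE]
    · exact hEn.map χ.toMonoidHom (MulEquiv.surjective χ)
  have hχE : ∀ e ∈ E, χ e ∈ E := by
    intro e he
    rw [← hmapE]
    exact ⟨e, he, rfl⟩
  have hχEinv : ∀ e : G, χ e ∈ E → e ∈ E := by
    intro e he
    rw [← hmapE] at he
    obtain ⟨e', he', h⟩ := he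
    have : e' = e := MulEquiv.injective χ h
    rw [← this]; exact he'
  have hχA : ∀ t ∈ Subgroup.centralizer (E : Set G), χ t ∈ Subgroup.centralizer (E : Set G) := by
    intro t ht
    rw [Subgroup.mem_centralizer_iff] at ht ⊢
    intro e he
    have he2 : e ∈ E.map χ.toMonoidHom := by rw [hmapE]; exact he
    obtain ⟨e', he', rfl⟩ := he2
    show χ e' * χ t = χ t * χ e'
    rw [← map_mul, ← map_mul, ht e' he']
  -- the shapes of `χ s` and `χ x`
  obtain ⟨c, e₁, he₁, hχs⟩ := hgenA (χ s) (hχA s hsA)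
  have huZ : (x ^ a)⁻¹ * χ x ∈ zN N := by
    rw [mem_zN]
    refine ⟨N.mul_mem (N.inv_mem (N.pow_mem hxN a)) (hQN (hχQ x hxQ).1), ?_⟩
    intro g hg
    exact ((hχQ x hxQ).2 g hg).symm
  set u := (x ^ a)⁻¹ * χ x with hu
  have hχx : χ x = x ^ a * u := by rw [hu]; group
  -- `χ y = y ^ (a * c) * u'`
  obtain ⟨u', hu', hχy0⟩ := Cfsg.Agent.Helper81.ResA2.comm_pow_mixed hc.nrm E hEN hZc hZK hcomm x hxN s hsA a c u huZ e₁ he₁
  have hχy : χ y = y ^ (a * c) * u' := by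
    rw [← hχy0, ← hχx, ← hχs, hy]
    simp only [map_mul, map_inv]
  -- `χ z = z ^ (a * (a * c))`
  have hχz : χ z = z ^ (a * (a * c)) := by
    rw [← Cfsg.Agent.Helper81.ResA2.comm_pow_N hZK x hxN y hyN a (a * c) u huZ u' hu', ← hχx, ← hχy, hz]
    simp only [map_mul, map_inv]
  -- `s ^ p`
  have hspZ : s ^ p ∈ zN N := hAP s hsA
  have hsp1 : s ^ p ≠ 1 := fun h => hsE (hAR s hsA h)
  have hχsp : χ (s ^ p) = (s ^ p) ^ c := by
    rw [map_pow, hχs]
    have hcm : Commute (s ^ c) e₁ :=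
      hAab (s ^ c) (Subgroup.pow_mem _ hsA c) e₁ (hEA he₁)
    rw [hcm.mul_pow, hc.exp e₁ (hEN he₁), mul_one, ← pow_mul, ← pow_mul, mul_comm]
  obtain ⟨k, k', hk', hspz⟩ := Cfsg.Agent.Helper85.ResA2.exists_pow_mul (p := p) (zN N) ⊥ bot_le
    (fun h _ k hk => by rw [Subgroup.mem_bot] at hk ⊢; rw [hk]; group)
    (by rw [hZ, Subgroup.card_bot, mul_one]) z hzZ (by rw [Subgroup.mem_bot]; exact hz1) (s ^ p) hspZ
  rw [Subgroup.mem_bot] at hk'
  rw [hk', mul_one] at hspz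
  have hχsp2 : χ (s ^ p) = (s ^ p) ^ (a * (a * c)) := by
    rw [hspz, map_pow, hχz, ← pow_mul, ← pow_mul, mul_comm]
  have hord : orderOf (s ^ p) = p :=
    orderOf_eq_prime (hc.exp _ (zN_le N hspZ)) hsp1
  have hmod : a * (a * c) ≡ c [MOD p] := by
    have h := hχsp2.symm.trans hχsp
    rw [pow_eq_pow_iff_modEq, hord] at h
    exact h
  have hcp : ¬ p ∣ c := by
    rintro ⟨c', rfl⟩
    apply hsE
    apply hχEinv
    rw [hχs, pow_mul]
    exact E.mul_mem (E.pow_mem (hZE hspZ) c') he₁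
  have hcop : Nat.Coprime p c := (Nat.Prime.coprime_iff_not_dvd hpp).mpr hcp
  have h2 : a * a * c ≡ 1 * c [MOD p] := by
    rw [one_mul, mul_assoc]; exact hmod
  have h3 : a * a ≡ 1 [MOD p] := Nat.ModEq.cancel_right_of_coprime hcop h2
  have h4 : a ^ 2 % p = 1 % p := by rw [pow_two]; exact h3
  rw [h4]
  exact Nat.mod_eq_of_lt hpp.one_lt

end Cfsg.Agent.Helper81.ResA2
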